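import Mathlib
import Groth.Agent.ConsPairLib.QuasiAffine

/-!
# Quasi-affine morphisms
-/

set_option autoImplicit false
set_option linter.style.haveILetI false
universe u

open CategoryTheory CategoryTheory.Limits AlgebraicGeometry TopologicalSpace

namespace Groth.Agent.QAffLib

variable {X Y Z : Scheme.{u}}

/-- A qcqs scheme covered by quasi-affine basic opens of global sections is quasi-affine. -/
lemma isQuasiAffine_of_basicOpen_cover (X : Scheme.{u}) [CompactSpace X] [QuasiSeparatedSpace X]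
    (H : ∀ x : X, ∃ a : Γ(X, ⊤), x ∈ X.basicOpen a ∧
      Scheme.IsQuasiAffine (X.basicOpen a : Scheme.{u})) : X.IsQuasiAffine := by
  refine Scheme.IsQuasiAffine.of_forall_exists_mem_basicOpen _ fun x => ?_
  obtain ⟨c, hxc, hq⟩ := H x
  haveI := hq
  obtain ⟨_, ⟨_, ⟨t, ht, rfl⟩, rfl⟩, hxt, -⟩ :=
    (Scheme.IsQuasiAffine.isBasis_basicOpen (X.basicOpen c : Scheme.{u})).exists_subset_of_mem_open
      (Set.mem_univ (⟨x, hxc⟩ : (X.basicOpen c : Scheme.{u}))) isOpen_univ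
  set t' : Γ(X, X.basicOpen c) := (X.basicOpen c).topIso.hom t with ht'
  haveI := isLocalization_basicOpen_of_qcqs (X := X) isCompact_univ isQuasiSeparated_univ c
  obtain ⟨⟨a, ⟨_, n, rfl⟩⟩, ha⟩ := IsLocalization.surj (M := .powers c) t'
  refine ⟨c * a, ?_⟩
  have hbo : X.basicOpen (c * a) = X.basicOpen t' := by
    have hu : IsUnit (algebraMap Γ(X, ⊤) Γ(X, X.basicOpen c) (c ^ n)) :=
      IsLocalization.map_units _ (⟨_, n, rfl⟩ : Submonoid.powers c)
    have h1 : X.basicOpen (algebraMap Γ(X, ⊤) Γ(X, X.basicOpen c) a) =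
        X.basicOpen c ⊓ X.basicOpen a := Scheme.basicOpen_res _ _ _
    rw [Scheme.basicOpen_mul, ← h1, ← ha, Scheme.basicOpen_mul, Scheme.basicOpen_of_isUnit _ hu,
      inf_eq_left]
    exact X.basicOpen_le _
  rw [hbo]
  have himg : (X.basicOpen c).ι ''ᵁ ((X.basicOpen c : Scheme.{u}).basicOpen t) = X.basicOpen t' := by
    rw [ht', Scheme.image_basicOpen]
    simp only [Scheme.Opens.ι_appIso, Scheme.Opens.topIso]
    exact (Scheme.basicOpen_res_eq _ _ _).symm
  rw [← himg]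
  exact ⟨ht.image_of_isOpenImmersion _, ⟨⟨x, hxc⟩, hxt, rfl⟩⟩

lemma isSeparated_of_qaMor (f : X ⟶ Y) (hf : ConsPairLib.qaMor f) : IsSeparated f := by
  rw [IsZariskiLocalAtTarget.iff_of_iSup_eq_top (P := @IsSeparated) _ (iSup_affineOpens_eq_top Y)]
  intro V
  haveI := hf.2 V.1 V.2
  haveI : IsSeparated ((f ∣_ V.1) ≫ terminal.from _) := by
    rw [terminal.hom_ext ((f ∣_ V.1) ≫ terminal.from _) (terminal.from _)]
    infer_instance
  exact IsSeparated.of_comp (f ∣_ V.1) (terminal.from _)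

/-- The source of a quasi-affine morphism to a quasi-affine scheme is quasi-affine. -/
lemma isQuasiAffine_of_qaMor (f : X ⟶ Y) (hf : ConsPairLib.qaMor f) [Y.IsQuasiAffine] :
    X.IsQuasiAffine := by
  haveI := hf.1
  haveI := isSeparated_of_qaMor f hf
  haveI := QuasiCompact.compactSpace_of_compactSpace f
  haveI : QuasiSeparatedSpace X := quasiSeparatedSpace_of_quasiSeparated f
  refine isQuasiAffine_of_basicOpen_cover X fun x ↦ ?_
  obtain ⟨_, ⟨_, ⟨r, hr, rfl⟩, rfl⟩, hxr, -⟩ :=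
    (Scheme.IsQuasiAffine.isBasis_basicOpen Y).exists_subset_of_mem_open (Set.mem_univ (f x))
      isOpen_univ
  refine ⟨f.appTop r, ?_, ?_⟩
  · rw [← Scheme.preimage_basicOpen_top]; exact hxr
  · rw [← Scheme.preimage_basicOpen_top]; exact hf.2 _ hr

lemma qaMor_comp (f : X ⟶ Y) (g : Y ⟶ Z) (hf : ConsPairLib.qaMor f) (hg : ConsPairLib.qaMor g) :
    ConsPairLib.qaMor (f ≫ g) := by
  haveI := hf.1
  haveI := hg.1
  refine ⟨inferInstance, fun V hV ↦ ?_⟩
  haveI := hg.2 V hV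
  exact isQuasiAffine_of_qaMor (f ∣_ (g ⁻¹ᵁ V))
    (IsZariskiLocalAtTarget.restrict (P := ConsPairLib.qaMor) hf (g ⁻¹ᵁ V))

/-- A quasi-compact immersion is quasi-affine. -/
lemma qaMor_of_isImmersion (f : X ⟶ Y) [IsImmersion f] [QuasiCompact f] : ConsPairLib.qaMor f := by
  refine ⟨inferInstance, fun V hV ↦ ?_⟩
  haveI : IsAffine (V : Scheme.{u}) := hV
  haveI : IsImmersion (f ∣_ V) := IsZariskiLocalAtTarget.restrict (P := @IsImmersion) ‹_› V
  haveI : CompactSpace (f ⁻¹ᵁ V : Scheme.{u}) :=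
    isCompact_iff_compactSpace.mp (f.isCompact_preimage hV.isCompact)
  exact Scheme.IsQuasiAffine.of_isImmersion (f ∣_ V)

lemma qaMor_of_comp (f : X ⟶ Y) (g : Y ⟶ Z) [QuasiSeparated g] (h : ConsPairLib.qaMor (f ≫ g)) :
    ConsPairLib.qaMor f := by
  let Γ : X ⟶ pullback (f ≫ g) g := pullback.lift (𝟙 X) f (by simp)
  have hΓ : Γ ≫ pullback.fst (f ≫ g) g = 𝟙 X := pullback.lift_fst _ _ _
  haveI : IsImmersion (Γ ≫ pullback.fst (f ≫ g) g) := by rw [hΓ]; infer_instance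
  haveI : IsImmersion Γ := IsImmersion.of_comp Γ (pullback.fst (f ≫ g) g)
  haveI : QuasiSeparated (pullback.fst (f ≫ g) g) := inferInstance
  haveI : QuasiCompact (Γ ≫ pullback.fst (f ≫ g) g) := by rw [hΓ]; infer_instance
  haveI : QuasiCompact Γ := QuasiCompact.of_comp Γ (pullback.fst (f ≫ g) g)
  rw [show f = Γ ≫ pullback.snd (f ≫ g) g from (pullback.lift_snd _ _ _).symm]
  exact qaMor_comp _ _ (qaMor_of_isImmersion Γ)
    (MorphismProperty.of_isPullback (IsPullback.of_hasPullback (f ≫ g) g) h)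

/-- A quasi-compact morphism which is a topological embedding is quasi-affine. -/
lemma qaMor_of_isEmbedding (f : X ⟶ Y) [QuasiCompact f] (hf : Topology.IsEmbedding f.base) :
    ConsPairLib.qaMor f := by
  refine ⟨inferInstance, fun V hV ↦ ?_⟩
  haveI : IsAffine (V : Scheme.{u}) := hV
  haveI : CompactSpace (f ⁻¹ᵁ V : Scheme.{u}) :=
    isCompact_iff_compactSpace.mp (f.isCompact_preimage hV.isCompact)
  have hf' : Topology.IsInducing (f ∣_ V).base := by
    rw [morphismRestrict_base]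
    exact (hf.restrictPreimage V).isInducing
  refine Scheme.IsQuasiAffine.of_forall_exists_mem_basicOpen _ fun x ↦ ?_
  obtain ⟨U, hU, hxU, -⟩ := exists_isAffineOpen_mem_and_subset (X := (f ⁻¹ᵁ V : Scheme.{u})) (x := x)
    (U := ⊤) trivial
  obtain ⟨O, hO, hOU⟩ := hf'.isOpen_iff.mp U.2
  have hxO : (f ∣_ V) x ∈ O := by
    show x ∈ (f ∣_ V).base ⁻¹' O
    rw [hOU]; exact hxU
  obtain ⟨_, ⟨_, ⟨a, rfl⟩, rfl⟩, hxa, haO⟩ :=
    (isBasis_basicOpen (V : Scheme.{u})).exists_subset_of_mem_open hxO hO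
  refine ⟨(f ∣_ V).appTop a, ?_, by rw [← Scheme.preimage_basicOpen_top]; exact hxa⟩
  have hle : (f ⁻¹ᵁ V : Scheme.{u}).basicOpen ((f ∣_ V).appTop a) ≤ U := by
    rw [← Scheme.preimage_basicOpen_top]
    intro z hz
    have : z ∈ (f ∣_ V).base ⁻¹' O := haO hz
    rwa [hOU] at this
  have heq : (f ⁻¹ᵁ V : Scheme.{u}).basicOpen ((f ∣_ V).appTop a) =
      (f ⁻¹ᵁ V : Scheme.{u}).basicOpen
        ((f ⁻¹ᵁ V : Scheme.{u}).presheaf.map (homOfLE le_top).op ((f ∣_ V).appTop a) :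
          Γ((f ⁻¹ᵁ V : Scheme.{u}), U)) := by
    rw [Scheme.basicOpen_res]; exact (inf_eq_right.mpr hle).symm
  rw [heq]
  exact hU.basicOpen _

end Groth.Agent.QAffLib
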